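import Groth.Agent.ZarConn.AppIso
import Groth.Agent.ChowX.Main
import Groth.Agent.H23.PullPush
import Groth.Agent.NeronHDLib.NormalizationFinite
import Groth.Agent.SchTorsor.GenericExtend

/-!
A proper birational morphism onto a normal scheme does not change functions; invertible modules
trivial upstairs are trivial downstairs.
-/

set_option autoImplicit false
set_option backward.isDefEq.respectTransparency false
set_option backward.isDefEq.respectTransparency.types false
set_option linter.style.haveILetI false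
set_option maxHeartbeats 1000000

universe u

open CategoryTheory CategoryTheory.Limits AlgebraicGeometry TopologicalSpace

namespace Groth.Agent.PicTorFF

variable {X Y : Scheme.{u}}

theorem isNormalScheme_open (hY : Pi1.IsNormalScheme Y) (W : Y.Opens) : Pi1.IsNormalScheme (W : Scheme.{u}) := by
  intro w
  obtain ⟨h1, h2⟩ := hY w.1
  let e := (asIso (W.ι.stalkMap w)).commRingCatIsoToRingEquiv
  haveI : IsDomain (Y.presheaf.stalk (W.ι w)) := h1
  haveI : IsIntegrallyClosed (Y.presheaf.stalk (W.ι w)) := h2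
  haveI : IsDomain ((W : Scheme.{u}).presheaf.stalk w) := e.symm.toMulEquiv.isDomain _
  exact ⟨inferInstance, IsIntegrallyClosed.of_equiv e⟩

theorem bijective_app_restrict {W : Y.Opens} (π : X ⟶ Y) (V : (W : Scheme.{u}).Opens)
    (h : Function.Bijective ((π ∣_ W).app V)) : Function.Bijective (π.app (W.ι ''ᵁ V)) := by
  have e := morphismRestrict_app π W V
  have h' : IsIso ((π ∣_ W).app V) := (ConcreteCategory.isIso_iff_bijective _).2 h
  rw [e] at h'
  haveI := h'
  haveI : IsIso (π.app (W.ι ''ᵁ V)) := IsIso.of_isIso_comp_right (π.app (W.ι ''ᵁ V))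
    (X.presheaf.map (eqToHom (image_morphismRestrict_preimage π W V)).op)
  exact ConcreteCategory.bijective_of_isIso (π.app (W.ι ''ᵁ V))

theorem bijective_app [IsLocallyNoetherian Y] [CompactSpace Y] (hY : Pi1.IsNormalScheme Y) (π : X ⟶ Y)
    [IsProper π] [IsReduced X] {U : Y.Opens} (hU : Dense (U : Set Y))
    (hU' : Dense ((π ⁻¹ᵁ U : X.Opens) : Set X)) (hiso : IsIso (π ∣_ U)) :
    ∀ V : Y.Opens, Function.Bijective (π.app V) := by
  classical
  haveI : IsNoetherian Y := {}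
  have hint := fun y => SchTorsor.GenericExtend.exists_integral_open
    (NoetherianSpace.finite_irreducibleComponents (α := Y)) (fun p => (hY p).1) y
  refine FlatMisc.bijective_app_of_isBasis π
    (B := {T : Y.Opens | ∃ W : Y.Opens, IsIntegral (W : Scheme.{u}) ∧ T ≤ W}) ?_ ?_
  · refine Opens.isBasis_iff_nbhd.2 fun {T y} hy => ?_
    obtain ⟨W, hyW, hW⟩ := hint y
    exact ⟨W ⊓ T, ⟨W, hW, inf_le_left⟩, ⟨hyW, hy⟩, inf_le_right⟩
  rintro T ⟨W, hW, hTW⟩
  haveI := hW
  haveI : IsLocallyNoetherian (W : Scheme.{u}) := LocallyOfFiniteType.isLocallyNoetherian W.ι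
  haveI : IsReduced (π ⁻¹ᵁ W : X.Opens).toScheme := isReduced_of_isOpenImmersion (π ⁻¹ᵁ W).ι
  obtain ⟨w, hw⟩ : ∃ w : Y, w ∈ (U ⊓ W : Y.Opens) := by
    obtain ⟨w, hw, hw'⟩ := hU.inter_open_nonempty _ W.isOpen ⟨_, (genericPoint (W : Scheme.{u})).2⟩
    exact ⟨w, hw', hw⟩
  let φ := π ∣_ W
  let U₁ : (W : Scheme.{u}).Opens := W.ι ⁻¹ᵁ U
  haveI : IsProper φ := inferInstance
  have hdense : Dense (φ ⁻¹ᵁ U₁).carrier := by
    have h := hU'.preimage (π ⁻¹ᵁ W).ι.isOpenEmbedding.isOpenMap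
    convert h using 1
    ext x
    show (φ x : W.toScheme).1 ∈ U ↔ π x.1 ∈ U
    rw [morphismRestrict_base_coe]
  have hφiso : IsIso (φ ∣_ U₁) := by
    have hiff := fun {A B A' B' : Scheme.{u}} {f : A ⟶ B} {g : A' ⟶ B'} (i : Arrow.mk f ≅ Arrow.mk g) =>
      (MorphismProperty.isomorphisms Scheme.{u}).arrow_mk_iso_iff i
    have heq : U.ι ''ᵁ (U.ι ⁻¹ᵁ W) = W.ι ''ᵁ U₁ := by
      rw [Scheme.Hom.image_preimage_eq_opensRange_inf, Scheme.Hom.image_preimage_eq_opensRange_inf,
        Scheme.Opens.opensRange_ι, Scheme.Opens.opensRange_ι, inf_comm]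
    haveI := hiso
    have h1 : IsIso ((π ∣_ U) ∣_ (U.ι ⁻¹ᵁ W)) := inferInstance
    exact (hiff (morphismRestrictRestrict π U (U.ι ⁻¹ᵁ W) ≪≫ morphismRestrictEq π heq ≪≫
      (morphismRestrictRestrict π W U₁).symm)).1 h1
  haveI := hφiso
  let e := asIso (φ ∣_ U₁)
  haveI hirr : IrreducibleSpace (φ ⁻¹ᵁ U₁).toScheme := by
    haveI : Nonempty U₁.toScheme := ⟨⟨⟨w, hw.2⟩, hw.1⟩⟩
    haveI : IsIntegral U₁.toScheme := isIntegral_of_isOpenImmersion U₁.ι
    haveI : Nonempty (φ ⁻¹ᵁ U₁).toScheme := ⟨e.inv (Classical.arbitrary _)⟩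
    haveI : IsIntegral (φ ⁻¹ᵁ U₁).toScheme := isIntegral_of_isOpenImmersion e.hom
    infer_instance
  haveI : IrreducibleSpace (π ⁻¹ᵁ W : X.Opens).toScheme := by
    have h1 : IsIrreducible ((φ ⁻¹ᵁ U₁ : Opens _) : Set (π ⁻¹ᵁ W : X.Opens).toScheme) := by
      have := (IrreducibleSpace.isIrreducible_univ (φ ⁻¹ᵁ U₁).toScheme).image (φ ⁻¹ᵁ U₁).ι
        (φ ⁻¹ᵁ U₁).ι.continuous.continuousOn
      rwa [Set.image_univ, Scheme.Opens.range_ι] at this
    have h2 := h1.closure
    erw [hdense.closure_eq] at h2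
    exact (irreducibleSpace_def _).2 h2
  haveI : IsIntegral (π ⁻¹ᵁ W : X.Opens).toScheme := isIntegral_of_irreducibleSpace_of_isReduced _
  let η := genericPoint (π ⁻¹ᵁ W : X.Opens).toScheme
  have hη : η ∈ φ ⁻¹ᵁ U₁ := ((genericPoint_spec _).mem_open_set_iff (φ ⁻¹ᵁ U₁).isOpen).2
    (let ⟨z, hz⟩ := hdense.inter_open_nonempty _ isOpen_univ ⟨η, trivial⟩; ⟨z, trivial, hz.2⟩)
  have hstalk : IsIso (φ.stalkMap η) :=
    ((MorphismProperty.isomorphisms CommRingCat.{u}).arrow_mk_iso_iff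
      (morphismRestrictStalkMap φ U₁ ⟨η, hη⟩)).1 (by
        show IsIso ((φ ∣_ U₁).stalkMap ⟨η, hη⟩)
        infer_instance)
  have hgen : φ η = genericPoint (W : Scheme.{u}) := by
    have hg : genericPoint (W : Scheme.{u}) ∈ U₁ :=
      ((genericPoint_spec _).mem_open_set_iff U₁.isOpen).2 ⟨⟨w, hw.2⟩, trivial, hw.1⟩
    have hx : φ (e.inv ⟨_, hg⟩).1 = genericPoint (W : Scheme.{u}) := by
      have h1 : (φ ∣_ U₁) (e.inv ⟨_, hg⟩) = (⟨_, hg⟩ : U₁.toScheme) := by
        rw [← Scheme.Hom.comp_apply, show e.inv ≫ φ ∣_ U₁ = 𝟙 _ from e.inv_hom_id]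
        rfl
      rw [← morphismRestrict_base_coe]
      exact congrArg Subtype.val h1
    exact (((genericPoint_specializes _).map φ.continuous).trans (specializes_of_eq hx)).antisymm
      (genericPoint_specializes _) |>.eq
  have key : ∀ V, Function.Bijective (φ.app V) := fun V => by
    haveI := ZarConn.isIso_app_of_birational (isNormalScheme_open hY W) φ hgen hstalk V
    exact ConcreteCategory.bijective_of_isIso (φ.app V)
  have := bijective_app_restrict π (W.ι ⁻¹ᵁ T) (key _)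
  rwa [show W.ι ''ᵁ (W.ι ⁻¹ᵁ T) = T by
    rw [Scheme.Hom.image_preimage_eq_opensRange_inf, Scheme.Opens.opensRange_ι, inf_eq_right.2 hTW]] at this

theorem iso_structure_of_pullback (π : X ⟶ Y) (hπ : ∀ V : Y.Opens, Function.Bijective (π.app V))
    {M : Y.Modules} (hM : PicF.IsInvertible M)
    (e : (Scheme.Modules.pullback π).obj M ≅ Coh.structureModule X) :
    Nonempty (M ≅ Coh.structureModule Y) := by
  obtain ⟨e'⟩ := PicClLib.nonempty_pullback_structureModule π
  haveI := H23.PullPush.isIso_unit_of_isFinLocFree π hπ M (H23.PullPush.isFinLocFree_of_isInvertible hM)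
  haveI := H23.PullPush.isIso_unit_of_isFinLocFree π hπ (Coh.structureModule Y)
    (H23.PullPush.isFinLocFree_of_isInvertible InvX.isInvertible_structureModule)
  exact ⟨asIso ((Scheme.Modules.pullbackPushforwardAdjunction π).unit.app M) ≪≫
    (Scheme.Modules.pushforward π).mapIso (e ≪≫ e'.symm) ≪≫
    (asIso ((Scheme.Modules.pullbackPushforwardAdjunction π).unit.app (Coh.structureModule Y))).symm⟩

end Groth.Agent.PicTorFF
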