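import Groth.Agent.InvFam.NumBounded
import Groth.Agent.ChowX.Main
import Groth.Agent.ChowX.QuasiProj
import Groth.Agent.IntSym.NumEuler
import Groth.Agent.PicTorFF.Birational

/-!
Numerically trivial invertible modules on normal proper schemes over finite fields have finite order.
-/

set_option autoImplicit false
set_option backward.isDefEq.respectTransparency false
set_option backward.isDefEq.respectTransparency.types false
set_option linter.style.haveILetI false
set_option maxHeartbeats 1000000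

universe u

open CategoryTheory CategoryTheory.Limits AlgebraicGeometry TopologicalSpace
open Groth.Agent.H23.PicMul
open scoped Groth.Agent.H23.PicMul

noncomputable section

namespace Groth.Agent.PicTorFF

theorem finite_sections_affine (k : Type u) [Field k] [Finite k] {T : Scheme.{u}} [IsAffine T]
    (q : T ⟶ Spec (CommRingCat.of k)) [LocallyOfFiniteType q] :
    Finite {t : Spec (CommRingCat.of k) ⟶ T // t ≫ q = 𝟙 _} := by
  classical
  let g := T.isoSpec.inv ≫ q
  let b := Spec.preimage g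
  letI : Algebra k Γ(T, ⊤) := b.hom.toAlgebra
  haveI : Algebra.FiniteType k Γ(T, ⊤) := by
    have h : LocallyOfFiniteType (Spec.map b) := by rw [Spec.map_preimage]; infer_instance
    exact RingHom.finiteType_algebraMap.1 ((HasRingHomProperty.Spec_iff (P := @LocallyOfFiniteType)).1 h)
  obtain ⟨G, hG⟩ := Algebra.FiniteType.out (R := k) (A := Γ(T, ⊤))
  haveI hA : Finite (Γ(T, ⊤) →ₐ[k] k) := Finite.of_injective (fun φ (a : G) => φ a.1) fun φ ψ h =>
    AlgHom.ext_of_adjoin_eq_top hG fun a ha => congrFun h ⟨a, ha⟩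
  have hcomm : ∀ s : {t : Spec (CommRingCat.of k) ⟶ T // t ≫ q = 𝟙 _},
      b ≫ Spec.preimage (s.1 ≫ T.isoSpec.hom) = 𝟙 _ := fun s => by
    apply Spec.map_injective
    rw [Spec.map_comp, Spec.map_preimage, Spec.map_preimage, Spec.map_id, Category.assoc,
      Iso.hom_inv_id_assoc]
    exact s.2
  let ev : {t : Spec (CommRingCat.of k) ⟶ T // t ≫ q = 𝟙 _} → (Γ(T, ⊤) →ₐ[k] k) := fun s =>
    { (Spec.preimage (s.1 ≫ T.isoSpec.hom)).hom with
      commutes' := fun c => congr(($(hcomm s)).hom c) }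
  refine Finite.of_injective ev fun s₁ s₂ h => Subtype.ext ((cancel_mono T.isoSpec.hom).1 ?_)
  have h2 : Spec.preimage (s₁.1 ≫ T.isoSpec.hom) = Spec.preimage (s₂.1 ≫ T.isoSpec.hom) :=
    CommRingCat.hom_ext (RingHom.ext fun a => DFunLike.congr_fun h a)
  simpa only [Spec.map_preimage] using congrArg Spec.map h2

theorem finite_sections (k : Type u) [Field k] [Finite k] {T : Scheme.{u}} (q : T ⟶ Spec (CommRingCat.of k))
    [LocallyOfFiniteType q] [QuasiCompact q] :
    Finite {t : Spec (CommRingCat.of k) ⟶ T // t ≫ q = 𝟙 _} := by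
  classical
  haveI : CompactSpace T := QuasiCompact.compactSpace_of_compactSpace q
  have hc : IsCompact ((⊤ : T.Opens) : Set T) := by
    rw [Opens.coe_top]; exact isCompact_univ
  obtain ⟨S, hS, hSU⟩ := isCompact_iff_finite_and_eq_biUnion_affineOpens.1 hc
  haveI hSf : Finite S := hS.to_subtype
  haveI hfin : ∀ U : S, Finite {t : Spec (CommRingCat.of k) ⟶ U.1.1.toScheme // t ≫ (U.1.1.ι ≫ q) = 𝟙 _} :=
    fun U => by
      haveI : IsAffine U.1.1.toScheme := U.1.2
      exact finite_sections_affine k (U.1.1.ι ≫ q)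
  let ev : (Σ U : S, {t : Spec (CommRingCat.of k) ⟶ U.1.1.toScheme // t ≫ (U.1.1.ι ≫ q) = 𝟙 _}) →
      {t : Spec (CommRingCat.of k) ⟶ T // t ≫ q = 𝟙 _} :=
    fun z => ⟨z.2.1 ≫ z.1.1.1.ι, (Category.assoc _ _ _).trans z.2.2⟩
  refine Finite.of_surjective ev fun t => ?_
  have hx : t.1 default ∈ (⊤ : T.Opens) := trivial
  rw [hSU] at hx
  obtain ⟨U, hxU⟩ := Opens.mem_iSup.1 hx
  obtain ⟨hU, hxU⟩ := Opens.mem_iSup.1 hxU
  let s := IsOpenImmersion.lift U.1.ι t.1 (by
    rintro _ ⟨y, rfl⟩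
    rw [Scheme.Opens.range_ι, Subsingleton.elim y default]
    exact hxU)
  have hs : s ≫ U.1.ι = t.1 := IsOpenImmersion.lift_fac _ _ _
  exact ⟨⟨⟨U, hU⟩, s, by rw [← Category.assoc, hs]; exact t.2⟩, Subtype.ext hs⟩

variable (k : Type u) [Field k] [Finite k] {X : Scheme.{u}} [X.Over (Spec (CommRingCat.of k))]
  [IsProper (X ↘ Spec (CommRingCat.of k))]

theorem torsion_of_ample {A : X.Modules} (hA : CohB1.IsAmple A) {L : X.Modules} (hL : VolLib.NT k L) :
    ∃ d : ℕ, 0 < d ∧ Nonempty (CohB1.tensorPow L d ≅ Coh.structureModule X) := by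
  classical
  obtain ⟨T, q, hq, hqc, F, -, hmem⟩ := InvFam.isBounded_numTriv k hA
  haveI := hq; haveI := hqc
  haveI := finite_sections k q
  have hp : ∀ j : ℕ, ∃ t : {t : Spec (CommRingCat.of k) ⟶ T // t ≫ q = 𝟙 _},
      Nonempty (Pic13.fibreMod k X q t.1 t.2 F ≅ CohB1.tensorPow L j) := fun j =>
    let ⟨t, ht, he⟩ := hmem _ (hL.pow j)
    ⟨⟨t, ht⟩, he⟩
  choose c hc using hp
  obtain ⟨a, b, hab, hcab⟩ : ∃ a b : ℕ, a < b ∧ c a = c b := by
    obtain ⟨a, b, hne, h⟩ := Finite.exists_ne_map_eq_of_infinite c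
    rcases lt_or_gt_of_ne hne with h' | h'
    · exact ⟨a, b, h', h⟩
    · exact ⟨b, a, h', h.symm⟩
  obtain ⟨e⟩ := hc a
  obtain ⟨e'⟩ := hc b
  refine ⟨b - a, Nat.sub_pos_of_lt hab, cl_eq_iff.1 ?_⟩
  rw [cl_tensorPow, ← H23.PicMul.one_def]
  have h1 : PicF.cl L ^ a = PicF.cl L ^ b := by
    rw [← cl_tensorPow, ← cl_tensorPow]
    rw [hcab] at e
    exact cl_eq_iff.2 ⟨e.symm ≪≫ e'⟩
  have h2 : PicF.cl L ^ a * PicF.cl L ^ (b - a) = PicF.cl L ^ a * 1 := by
    rw [← pow_add, Nat.add_sub_cancel' hab.le, mul_one, h1]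
  exact ((isUnit_cl hL.1).pow a).mul_left_cancel h2

theorem torsion_of_normal (hX : Pi1.IsNormalScheme X) {L : X.Modules} (hL : PicF.IsInvertible L)
    (hnum : Pic13.IsNumEquivZero k X L) :
    ∃ d : ℕ, 0 < d ∧ Nonempty (CohB1.tensorPow L d ≅ Coh.structureModule X) := by
  let p := X ↘ Spec (CommRingCat.of k)
  haveI := CurveCohLib.isNoetherian_of_proper (k := k) (X := X)
  haveI : IsReduced X := NeronHDLib.isReduced_of_isNormalScheme hX
  obtain ⟨n, X', π, j, -, hj, hjqc, hjr, hπ, -, ⟨U, hU, hU', hiso⟩, hred, -⟩ :=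
    ChowX.chow_dense p (NoetherianSpace.finite_irreducibleComponents (α := X))
  haveI := hπ
  haveI := hred inferInstance
  letI : X'.Over (Spec (CommRingCat.of k)) := ⟨π ≫ p⟩
  haveI : IsProper (X' ↘ Spec (CommRingCat.of k)) := show IsProper (π ≫ p) from inferInstance
  let P₀ := CohB1.ProjSpaceOver.toBase n (Spec (CommRingCat.of k))
  haveI : IsProper (CohB1.ProjSpace.toSpec n (ULift.{u} ℤ)) := PnCoh.Chow.isProper_toSpec n _
  haveI : IsProper P₀ := MorphismProperty.pullback_snd _ _ inferInstance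
  haveI : IsProper (j ≫ P₀) := by rw [hjr]; infer_instance
  have hA : CohB1.IsAmple ((Scheme.Modules.pullback j).obj (Twist.twistOver n (Spec (CommRingCat.of k)) 1)) :=
    (AmpleX.isRelAmple_iff_isAmple (j ≫ P₀) _).1
      (AmpleX.isRelAmple_pullback_embedding P₀ j j.isEmbedding (ChowX.isRelAmple_twistOver n _))
  obtain ⟨d, hd, ⟨e⟩⟩ := torsion_of_ample k hA (IntSym.nt_pullback k π rfl hL hnum)
  obtain ⟨a⟩ := IntNum.pullback_tensorPow π L d
  exact ⟨d, hd, iso_structure_of_pullback π (bijective_app hX π hU hU' hiso)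
    (InvX.isInvertible_tensorPow hL d) (a ≪≫ e)⟩

end Groth.Agent.PicTorFF
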