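import Groth.Agent.PicTorFF.FiniteField
import Groth.Agent.PicBnd.AlgLim
import Groth.Agent.NumBC.Basic
import Groth.Agent.ParaFX.TrivDesc
import Groth.Agent.PicRep.Good
import Groth.Agent.S0591
import Groth.Agent.S0086
import Groth.Agent.S2539
import Groth.Agent.S4788

/-!
Numerically trivial invertible modules on normal proper schemes over algebraic extensions of
finite fields have finite order.
-/

set_option autoImplicit false
set_option backward.isDefEq.respectTransparency false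
set_option backward.isDefEq.respectTransparency.types false
set_option linter.style.haveILetI false
set_option maxHeartbeats 1000000

universe u

open CategoryTheory CategoryTheory.Limits AlgebraicGeometry TopologicalSpace Opposite
open Groth.Agent.H23.PicMul
open scoped Groth.Agent.H23.PicMul

noncomputable section

namespace Groth.Agent.PicTorFF

theorem finite_sub (F K : Type u) [Field F] [Field K] [Algebra F K] [Finite F]
    (hint : ∀ x : K, IsIntegral F x) (s : Finset K) : Finite (PicBnd.AlgLim.sub F K s) := by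
  haveI : Module.Finite F (PicBnd.AlgLim.sub F K s) :=
    Module.Finite.iff_fg.2 (fg_adjoin_of_finite s.finite_toSet fun x _ => hint x)
  exact Module.finite_of_finite F

theorem flat_surjective_field (F K : Type u) [Field F] [Field K] [Algebra F K] :
    Flat (Spec.map (CommRingCat.ofHom (algebraMap F K))) ∧
      Surjective (Spec.map (CommRingCat.ofHom (algebraMap F K))) := by
  refine ⟨(HasRingHomProperty.Spec_iff (P := @Flat)).2 (RingHom.flat_algebraMap_iff.2 inferInstance), ⟨fun y => ⟨default, ?_⟩⟩⟩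
  exact Subsingleton.elim (α := PrimeSpectrum F) _ _

theorem numEquivZero_congr (k : Type u) [Field k] {X : Scheme.{u}} [X.Over (Spec (CommRingCat.of k))]
    {L L' : X.Modules} (e : L ≅ L') (h : Pic13.IsNumEquivZero k X L) : Pic13.IsNumEquivZero k X L' := by
  intro Y i hi hY hd
  letI : Y.Over (Spec (CommRingCat.of k)) := ⟨i ≫ (X ↘ Spec (CommRingCat.of k))⟩
  refine Eq.trans ?_ (@h Y i hi hY hd)
  show FGA.eulerCharLE k Y _ 1 - _ = FGA.eulerCharLE k Y _ 1 - _
  rw [VolLib.eulerCharLE_congr k ((Scheme.Modules.pullback i).mapIso e.symm) 1]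

theorem torsion_model {k : Type u} [Field k] {X : Scheme.{u}} [X.Over (Spec (CommRingCat.of k))]
    [IsProper (X ↘ Spec (CommRingCat.of k))] (hX : Pi1.IsNormalScheme X) {L : X.Modules}
    (hnum : Pic13.IsNumEquivZero k X L) (hL : PicF.IsInvertible L)
    (k₂ : Type u) [Field k₂] [Finite k₂] [Algebra k₂ k] {X₂ : Scheme.{u}}
    (p₂ : X₂ ⟶ Spec (CommRingCat.of k₂)) [IsProper p₂] (g : X ⟶ X₂)
    (hg : IsPullback g (X ↘ Spec (CommRingCat.of k)) p₂ (Spec.map (CommRingCat.ofHom (algebraMap k₂ k))))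
    (F : X₂.Modules) (hF : Coh.IsQCoh F) (e : (Scheme.Modules.pullback g).obj F ≅ L) :
    ∃ d : ℕ, 0 < d ∧ Nonempty (CohB1.tensorPow L d ≅ Coh.structureModule X) := by
  letI : X₂.Over (Spec (CommRingCat.of k₂)) := ⟨p₂⟩
  haveI : IsProper (X₂ ↘ Spec (CommRingCat.of k₂)) := ‹IsProper p₂›
  let b := Spec.map (CommRingCat.ofHom (algebraMap k₂ k))
  obtain ⟨hfl, hsu⟩ := flat_surjective_field k₂ k
  haveI : Flat g := MorphismProperty.of_isPullback (P := @Flat) hg.flip hfl
  haveI : Surjective g := MorphismProperty.of_isPullback (P := @Surjective) hg.flip hsu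
  haveI : QuasiCompact g := MorphismProperty.of_isPullback (P := @QuasiCompact) hg.flip inferInstance
  have hX₂ : Pi1.IsNormalScheme X₂ := S2539.result g hX
  have hFi : PicF.IsInvertible F := ParaFX.isInvertible_of_pullback g hF
    (ParaFX.isInvertible_of_iso e.symm hL)
  have hnum₂ : Pic13.IsNumEquivZero k₂ X₂ F := by
    refine NumBC.of_baseChange k₂ k F hFi ?_
    letI : (pullback p₂ b).Over (Spec (CommRingCat.of k)) := ⟨pullback.snd _ _⟩
    haveI : IsProper (pullback p₂ b ↘ Spec (CommRingCat.of k)) := inferInstanceAs (IsProper (pullback.snd _ _))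
    have h := IntSym.nt_pullback k hg.isoPullback.inv hg.isoPullback_inv_snd hL hnum
    exact numEquivZero_congr k ((Scheme.Modules.pullback hg.isoPullback.inv).mapIso e.symm ≪≫
      (Scheme.Modules.pullbackComp _ _).app F ≪≫
      (Scheme.Modules.pullbackCongr hg.isoPullback_inv_fst).app F) h.2
  obtain ⟨d, hd, ⟨t⟩⟩ := torsion_of_normal k₂ hX₂ hFi hnum₂
  obtain ⟨a⟩ := IntNum.pullback_tensorPow g F d
  obtain ⟨c⟩ : Nonempty (CohB1.tensorPow ((Scheme.Modules.pullback g).obj F) d ≅ CohB1.tensorPow L d) :=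
    cl_eq_iff.1 (by rw [cl_tensorPow, cl_tensorPow, cl_eq_iff.2 ⟨e⟩])
  obtain ⟨o⟩ := PicClLib.nonempty_pullback_structureModule g
  exact ⟨d, hd, ⟨c.symm ≪≫ a.symm ≪≫ (Scheme.Modules.pullback g).mapIso t ≪≫ o⟩⟩

theorem torsion (p : ℕ) [Fact (Nat.Prime p)] (k : Type u) [Field k] [CharP k p]
    (halg : ∀ x : k, ∃ n : ℕ, 0 < n ∧ x ^ (p ^ n) = x) {X : Scheme.{u}}
    [X.Over (Spec (CommRingCat.of k))] [IsProper (X ↘ Spec (CommRingCat.of k))] (hX : Pi1.IsNormalScheme X)
    {L : X.Modules} (hL : PicF.IsInvertible L) (hnum : Pic13.IsNumEquivZero k X L) :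
    ∃ d : ℕ, 0 < d ∧ Nonempty (CohB1.tensorPow L d ≅ Coh.structureModule X) := by
  classical
  let P₀ : Subfield k := (ZMod.castHom (dvd_refl p) k).fieldRange
  haveI : Finite P₀ := Finite.of_surjective (ZMod.castHom (dvd_refl p) k).rangeRestrictField
    (by rintro ⟨_, x, rfl⟩; exact ⟨x, rfl⟩)
  have hint : ∀ x : k, IsIntegral P₀ x := fun x => by
    obtain ⟨n, hn, hx⟩ := halg x
    refine ⟨Polynomial.X ^ (p ^ n) - Polynomial.X, Polynomial.monic_X_pow_sub ?_, by simp [hx]⟩
    rw [Polynomial.degree_X]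
    exact_mod_cast Nat.one_lt_pow hn.ne' (Fact.out : p.Prime).one_lt
  let str := X ↘ Spec (CommRingCat.of k)
  haveI : CompactSpace X := QuasiCompact.compactSpace_of_compactSpace str
  haveI : QuasiSeparatedSpace X := quasiSeparatedSpace_of_quasiSeparated str
  haveI := CurveCohLib.isNoetherian_of_proper (k := k) (X := X)
  haveI : ∀ (i j : (Finset k)ᵒᵖ) (f : i ⟶ j), IsAffineHom ((PicBnd.AlgLim.specs P₀ k).map f) :=
    fun _ _ _ => inferInstanceAs (IsAffineHom (Spec.map _))
  haveI : ∀ i, CompactSpace ((PicBnd.AlgLim.specs P₀ k).obj i) := fun i =>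
    inferInstanceAs (CompactSpace (PrimeSpectrum _))
  haveI : ∀ i, QuasiSeparatedSpace ((PicBnd.AlgLim.specs P₀ k).obj i) := fun i =>
    inferInstanceAs (QuasiSeparatedSpace (PrimeSpectrum _))
  haveI : LocallyOfFinitePresentation str := inferInstance
  obtain ⟨i, X₁, p₁, g, -, hqc₁, hqs₁, hg⟩ := S0591.result (PicBnd.AlgLim.specs P₀ k)
    (PicBnd.AlgLim.specCone P₀ k) (PicBnd.AlgLim.isLimitSpec P₀ k) X str
  haveI := hqc₁; haveI := hqs₁
  let k₁ := PicBnd.AlgLim.sub P₀ k i.unop
  haveI : Finite k₁ := finite_sub P₀ k hint _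
  letI : Field k₁ := (Finite.isField_of_domain k₁).toField
  obtain ⟨hfl, hsu⟩ := flat_surjective_field k₁ k
  haveI := S0086.result.{u}
  haveI : IsProper p₁ := MorphismProperty.DescendsAlong.of_isPullback (P := @IsProper)
    (Q := @Surjective ⊓ @Flat ⊓ @QuasiCompact)
    (hg : IsPullback g str p₁ (Spec.map (CommRingCat.ofHom (algebraMap k₁ k)))).flip
    ⟨⟨hsu, hfl⟩, (inferInstanceAs (QuasiCompact (Spec.map (CommRingCat.ofHom (algebraMap k₁ k)))))⟩ ‹IsProper str›
  haveI : CompactSpace X₁ := QuasiCompact.compactSpace_of_compactSpace p₁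
  haveI : QuasiSeparatedSpace X₁ := quasiSeparatedSpace_of_quasiSeparated p₁
  let b₁ : Spec (CommRingCat.of k) ⟶ Spec (CommRingCat.of k₁) :=
    Spec.map (CommRingCat.ofHom (algebraMap k₁ k))
  have hg₁ : IsPullback g str p₁ b₁ := hg
  let MA := (Scheme.Modules.pullback hg₁.isoPullback.inv).obj L
  have hMA : PicF.IsInvertible MA := PicClLib.isInvertible_pullback _ hL
  have hfp : CohB1.IsFP MA := PicRep.isFP_of_isInvertible hMA
  haveI : Coh.IsQCoh MA := QCoh.isQCoh_of_isFP hfp
  obtain ⟨s, -, F, hFq, -, ⟨e⟩⟩ := S4788.result (PicBnd.AlgLim.diag k₁ k p₁) (PicBnd.AlgLim.cone k₁ k p₁)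
    (PicBnd.AlgLim.isLimitCone k₁ k p₁) (op ∅) MA hfp
  let k₂ := PicBnd.AlgLim.sub k₁ k s.unop
  have hint₁ : ∀ x : k, IsIntegral k₁ x := fun x => (hint x).tower_top
  haveI : Finite k₂ := finite_sub k₁ k hint₁ _
  letI : Field k₂ := (Finite.isField_of_domain k₂).toField
  haveI : IsProper (pullback.snd p₁ (PicBnd.AlgLim.str k₁ k s)) :=
    MorphismProperty.pullback_snd _ _ ‹IsProper p₁›
  let g₂ : X ⟶ pullback p₁ (PicBnd.AlgLim.str k₁ k s) := hg₁.isoPullback.hom ≫ PicBnd.AlgLim.proj k₁ k p₁ s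
  have hg₂ : IsPullback g₂ str (pullback.snd p₁ (PicBnd.AlgLim.str k₁ k s))
      (Spec.map (CommRingCat.ofHom (algebraMap k₂ k))) := by
    refine IsPullback.of_iso (PicBnd.AlgLim.isPullback_proj k₁ k p₁ s) hg₁.isoPullback.symm
      (Iso.refl _) (Iso.refl _) (Iso.refl _) ?_ ?_ (by simp) ?_
    · simp [g₂]
    · simp; rfl
    · simp; rfl
  exact torsion_model hX hnum hL k₂ _ g₂ hg₂ F hFq
    ((Scheme.Modules.pullbackComp hg₁.isoPullback.hom (PicBnd.AlgLim.proj k₁ k p₁ s)).symm.app F ≪≫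
      (Scheme.Modules.pullback hg₁.isoPullback.hom).mapIso e ≪≫
      (Scheme.Modules.pullbackComp _ _).app L ≪≫
      (Scheme.Modules.pullbackCongr hg₁.isoPullback.hom_inv_id).app L ≪≫
      (Scheme.Modules.pullbackId X).app L)

end Groth.Agent.PicTorFF
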